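import Groth.Agent.Lib.SGA7Torsion.Infinitesimal
import Groth.Agent.Lib.EtaleNhd17.Basic
import Mathlib.AlgebraicGeometry.Morphisms.Etale
import Mathlib.AlgebraicGeometry.Morphisms.Flat
import Mathlib.RingTheory.Flat.Basic
import Groth.Agent.Lib.FlatH4.LocCrit

/-!
# The `n`-th power map of a group over a field is étale at the unit, for `n` invertible
-/

universe u

open CategoryTheory Limits MonoidalCategory CartesianMonoidalCategory AlgebraicGeometry IsLocalRing
open scoped MonObj GrpObj TensorProduct

set_option linter.style.haveILetI false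
set_option backward.isDefEq.respectTransparency false

namespace Groth.Agent.MulEtale20

/-- A surjective endomorphism of a Noetherian ring is injective. -/
theorem injective_of_surjective_endo {R : Type u} [CommRing R] [IsNoetherianRing R] (φ : R →+* R)
    (h : Function.Surjective φ) : Function.Injective φ := by
  let F : ℕ → Ideal R := fun n => RingHom.ker (φ ^ n)
  have hmono : Monotone F := monotone_nat_of_le_succ fun n x hx => by
    simp only [F, RingHom.mem_ker, pow_succ'] at hx ⊢
    rw [RingHom.mul_def, RingHom.comp_apply, hx, map_zero]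
  obtain ⟨N, hN⟩ := monotone_stabilizes_iff_noetherian.2 ‹IsNoetherianRing R› ⟨F, hmono⟩
  rw [injective_iff_map_eq_zero]
  intro x hx
  obtain ⟨y, rfl⟩ := (RingHom.coe_pow φ N ▸ h.iterate N) x
  have : y ∈ F (N + 1) := by
    simp only [F, RingHom.mem_ker, pow_succ']
    rw [RingHom.mul_def, RingHom.comp_apply, hx]
  rw [show F (N + 1) = F N from (hN (N + 1) (Nat.le_succ N)).symm] at this
  exact this

section Flat

variable {R S : Type u} [CommRing R] [CommRing S] [IsLocalRing R] [IsLocalRing S] [IsNoetherianRing R]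
  [IsNoetherianRing S]

/-- A local homomorphism which is bijective modulo all powers of the maximal ideals is flat. -/
theorem flat_of_bijective_quot (φ : R →+* S) (hm : (maximalIdeal R).map φ = maximalIdeal S)
    (hs : ∀ (n : ℕ) (c : S), ∃ r, c - φ r ∈ maximalIdeal S ^ n)
    (hi : ∀ (n : ℕ) (r : R), φ r ∈ maximalIdeal S ^ n → r ∈ maximalIdeal R ^ n) : φ.Flat := by
  algebraize [φ]
  refine FlatH4.flat_of_forall_pow (S := S) (M := S) (maximalIdeal R) ?_ fun n p => ?_
  · rw [IsLocalRing.jacobson_eq_maximalIdeal _ bot_ne_top]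
    exact hm.le
  let I := maximalIdeal R ^ n
  have hmap : I.map (algebraMap R S) = maximalIdeal S ^ n := by
    rw [Ideal.map_pow]; exact congrArg (· ^ n) hm
  have hone : ∀ x : S ⊗[R] p, ∃ q : p, x = 1 ⊗ₜ q := by
    intro x
    induction x using TensorProduct.induction_on with
    | zero => exact ⟨0, by simp⟩
    | add x y hx hy =>
      obtain ⟨q, rfl⟩ := hx
      obtain ⟨q', rfl⟩ := hy
      exact ⟨q + q', (TensorProduct.tmul_add _ _ _).symm⟩
    | tmul s q =>
      obtain ⟨r, hr⟩ := hs n s
      refine ⟨r • q, ?_⟩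
      have hkill : ∀ t ∈ I.map (algebraMap R S), t ⊗ₜ[R] q = 0 := by
        intro t ht
        induction ht using Submodule.span_induction with
        | mem t ht =>
          obtain ⟨a, ha, rfl⟩ := ht
          rw [Algebra.algebraMap_eq_smul_one, TensorProduct.smul_tmul,
            show a • q = 0 from Subtype.ext ?_, TensorProduct.tmul_zero]
          show a • (q : R ⧸ I) = 0
          obtain ⟨b, hb⟩ := Ideal.Quotient.mk_surjective (q : R ⧸ I)
          rw [← hb, ← Ideal.Quotient.mk_eq_mk, ← Submodule.Quotient.mk_smul, Submodule.Quotient.mk_eq_zero]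
          exact I.mul_mem_right b ha
        | zero => exact TensorProduct.zero_tmul _ _
        | add x y _ _ hx hy => rw [TensorProduct.add_tmul, hx, hy, add_zero]
        | smul t u _ hu => rw [← TensorProduct.smul_tmul', hu, smul_zero]
      have h0 := hkill _ (hmap ▸ hr)
      rw [TensorProduct.sub_tmul, sub_eq_zero] at h0
      rw [h0, TensorProduct.tmul_smul, TensorProduct.smul_tmul', ← Algebra.algebraMap_eq_smul_one]
      rfl
  rw [injective_iff_map_eq_zero]
  intro x hx
  obtain ⟨q, rfl⟩ := hone x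
  obtain ⟨b, hb⟩ := Ideal.Quotient.mk_surjective (q : R ⧸ I)
  let J := I.map (algebraMap R S)
  let ψ : R ⧸ I →ₐ[R] S ⧸ J := Ideal.Quotient.liftₐ I (Algebra.ofId R (S ⧸ J)) fun a ha =>
    Ideal.Quotient.eq_zero_iff_mem.2 (Ideal.mem_map_of_mem _ ha)
  let ν : S ⊗[R] (R ⧸ I) →ₐ[R] S ⧸ J :=
    Algebra.TensorProduct.lift (Ideal.Quotient.mkₐ R J) ψ fun _ _ => Commute.all _ _
  have h1 : ν (1 ⊗ₜ (q : R ⧸ I)) = Ideal.Quotient.mk J (φ b) := by
    simp only [ν, Algebra.TensorProduct.lift_tmul, map_one, one_mul, ← hb]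
    rfl
  rw [LinearMap.lTensor_tmul] at hx
  have h2 : b ∈ I := hi n b (by
    rw [← hmap, ← Ideal.Quotient.eq_zero_iff_mem]
    exact h1.symm.trans ((congrArg ν hx).trans (map_zero ν)))
  rw [show q = 0 from Subtype.ext (hb.symm.trans (Ideal.Quotient.eq_zero_iff_mem.2 h2)),
    TensorProduct.tmul_zero]

omit [IsNoetherianRing S] in
/-- An endomorphism of a Noetherian local ring which fixes the residue field and the maximal ideal
is flat. -/
theorem flat_of_endo (φ : R →+* R) (hm : (maximalIdeal R).map φ = maximalIdeal R)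
    (hres : ∀ c, c - φ c ∈ maximalIdeal R) : φ.Flat := by
  have hs : ∀ (n : ℕ) (c : R), ∃ r, c - φ r ∈ maximalIdeal R ^ n := by
    intro n
    induction n with
    | zero => exact fun c => ⟨0, by simp⟩
    | succ n ih =>
      intro c
      obtain ⟨r, hr⟩ := ih c
      have hpow : maximalIdeal R ^ n = Ideal.map φ (maximalIdeal R ^ n) := by rw [Ideal.map_pow, hm]
      have key : ∀ t ∈ Ideal.map φ (maximalIdeal R ^ n), ∃ a, t - φ a ∈ maximalIdeal R ^ (n + 1) := by
        intro t ht
        suffices ∃ a ∈ maximalIdeal R ^ n, t - φ a ∈ maximalIdeal R ^ (n + 1) from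
          let ⟨a, _, h⟩ := this; ⟨a, h⟩
        induction ht using Submodule.span_induction with
        | mem t ht =>
          obtain ⟨a, ha, rfl⟩ := ht
          exact ⟨a, ha, by simp⟩
        | zero => exact ⟨0, zero_mem _, by simp⟩
        | add x y _ _ hx hy =>
          obtain ⟨a, ha, ha'⟩ := hx
          obtain ⟨b, hb, hb'⟩ := hy
          refine ⟨a + b, add_mem ha hb, ?_⟩
          rw [map_add, add_sub_add_comm]
          exact add_mem ha' hb'
        | smul s x _ hx =>
          obtain ⟨a, ha, ha'⟩ := hx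
          refine ⟨s * a, Ideal.mul_mem_left _ _ ha, ?_⟩
          have e : s • x - φ (s * a) = s * (x - φ a) + (s - φ s) * φ a := by
            rw [map_mul, smul_eq_mul]; ring
          rw [e]
          refine add_mem (Ideal.mul_mem_left _ _ ha') ?_
          rw [pow_succ']
          exact Ideal.mul_mem_mul (hres s) (hpow ▸ Ideal.mem_map_of_mem φ ha)
      obtain ⟨a, ha⟩ := key _ (hpow ▸ hr)
      exact ⟨r + a, by rwa [map_add, sub_add_eq_sub_sub]⟩
  refine flat_of_bijective_quot φ hm hs fun n r hr => ?_
  let I := maximalIdeal R ^ n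
  have hle : I ≤ I.comap φ := by
    rw [← Ideal.map_le_iff_le_comap, Ideal.map_pow, hm]
  let ψ : R ⧸ I →+* R ⧸ I := Ideal.quotientMap I φ hle
  have hψ : Function.Surjective ψ := by
    intro y
    obtain ⟨c, rfl⟩ := Ideal.Quotient.mk_surjective y
    obtain ⟨a, ha⟩ := hs n c
    exact ⟨Ideal.Quotient.mk I a, (Ideal.Quotient.mk_eq_mk_iff_sub_mem _ _).2 ha |>.symm⟩
  rw [← Ideal.Quotient.eq_zero_iff_mem]
  refine injective_of_surjective_endo ψ hψ ?_
  rw [map_zero]
  exact Ideal.Quotient.eq_zero_iff_mem.2 hr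

end Flat

variable {K : Type u} [Field K] (G : Over (Spec (CommRingCat.of K))) [GrpObj G]
  [LocallyOfFiniteType G.hom]

/-- The power map on a group over a field is flat and unramified at the unit. -/
theorem flat_unramified_pow (n : ℕ) (hn : (n : K) ≠ 0) :
    ((𝟙 G ^ n : G ⟶ G).left.stalkMap (η[G].left (closedPoint K))).hom.Flat ∧
      ((𝟙 G ^ n : G ⟶ G).left.stalkMap (η[G].left (closedPoint K))).hom.FormallyUnramified := by
  haveI : IsLocallyNoetherian G.left := LocallyOfFiniteType.isLocallyNoetherian G.hom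
  let f : G.left ⟶ G.left := (𝟙 G ^ n : G ⟶ G).left
  haveI : LocallyOfFiniteType (f ≫ G.hom) := by
    rw [show f ≫ G.hom = G.hom from Over.w _]; infer_instance
  haveI : LocallyOfFiniteType f := locallyOfFiniteType_of_comp f G.hom
  have hηf : η[G] ≫ (𝟙 G ^ n : G ⟶ G) = η[G] := by
    rw [MonObj.comp_pow, Category.comp_id, MonObj.one_eq_one, one_pow]
  let e : Spec (CommRingCat.of K) ⟶ G.left := η[G].left
  have hef : e ≫ f = e := congrArg (fun g => g.left) hηf
  let x : G.left := e (closedPoint K)
  have hx : f x = x := by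
    show f (e _) = e _
    rw [← Scheme.Hom.comp_apply, hef]
  let O := G.left.presheaf.stalk x
  let c : G.left.presheaf.stalk (f x) ≅ O := G.left.presheaf.stalkCongr (.of_eq hx)
  let φ : O ⟶ O := c.inv ≫ f.stalkMap x
  have hφf : Spec.map φ ≫ G.left.fromSpecStalk x = G.left.fromSpecStalk x ≫ f := by
    simp only [φ, c, Spec.map_comp, Category.assoc, TopCat.Presheaf.stalkCongr_inv,
      Scheme.SpecMap_stalkSpecializes_fromSpecStalk, Scheme.SpecMap_stalkMap_fromSpecStalk]
  -- the counit
  let ev : O ⟶ CommRingCat.of K := Scheme.stalkClosedPointTo e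
  have hev : Spec.map ev ≫ G.left.fromSpecStalk x = e := Scheme.Spec_stalkClosedPointTo_fromSpecStalk e
  let α : CommRingCat.of K ⟶ O := Spec.preimage (G.left.fromSpecStalk x ≫ G.hom)
  have hα : Spec.map α = G.left.fromSpecStalk x ≫ G.hom := Spec.map_preimage _
  have hew : e ≫ G.hom = 𝟙 _ := Over.w η[G]
  have hαev : α ≫ ev = 𝟙 _ := Spec.map_injective (by
    rw [Spec.map_comp, hα, ← Category.assoc, hev, Spec.map_id, hew])
  have hevφ : φ ≫ ev = ev := Spec.map_injective (by
    rw [← cancel_mono (G.left.fromSpecStalk x), Spec.map_comp, Category.assoc, hφf, ← Category.assoc,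
      hev, hef])
  haveI : IsLocalHom ev.hom := inferInstanceAs (IsLocalHom (Scheme.stalkClosedPointTo e).hom)
  have hker : ∀ a : O, ev.hom a = 0 → a ∈ maximalIdeal O := fun a ha hu => by
    exact not_isUnit_zero (ha ▸ hu.map ev.hom)
  have hres : ∀ a : O, a - φ.hom a ∈ maximalIdeal O := fun a => hker _ (by
    rw [map_sub, show ev.hom (φ.hom a) = ev.hom a from congrArg (fun g => g.hom a) hevφ, sub_self])
  haveI : IsLocalHom φ.hom := by
    show IsLocalHom ((f.stalkMap x).hom.comp c.inv.hom)
    infer_instance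
  -- morphisms killing the maximal ideal are constant
  have hconst : ∀ {A : CommRingCat.{u}} (τ : O ⟶ A), (∀ a ∈ maximalIdeal O, τ.hom a = 0) →
      Spec.map τ ≫ G.left.fromSpecStalk x = (Spec.map τ ≫ G.left.fromSpecStalk x ≫ G.hom) ≫ e := by
    intro A τ hτ
    have hh : τ = ev ≫ α ≫ τ := by
      ext a
      have h1 : ev.hom (a - α.hom (ev.hom a)) = 0 := by
        rw [map_sub, show ev.hom (α.hom (ev.hom a)) = ev.hom a from
          congrArg (fun g => g.hom (ev.hom a)) hαev, sub_self]
      have h2 := hτ _ (hker _ h1)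
      rw [map_sub, sub_eq_zero] at h2
      exact h2
    conv_lhs => rw [hh]
    rw [Spec.map_comp, Spec.map_comp, Category.assoc, Category.assoc, hev, ← hα, Category.assoc]
  -- the ideal generated by the image of the maximal ideal
  have hle : (maximalIdeal O).map φ.hom ≤ maximalIdeal O :=
    ((IsLocalRing.local_hom_TFAE φ.hom).out 0 2).1 ‹IsLocalHom φ.hom›
  have hm : (maximalIdeal O).map φ.hom = maximalIdeal O := by
    refine le_antisymm hle ?_
    let I := (maximalIdeal O).map φ.hom
    let W := O ⧸ I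
    haveI : Nontrivial W := Ideal.Quotient.nontrivial_iff.2
      (ne_top_of_le_ne_top (maximalIdeal.isMaximal O).ne_top hle)
    haveI : IsLocalRing W := IsLocalRing.of_surjective' (Ideal.Quotient.mk I) Ideal.Quotient.mk_surjective
    letI : Algebra K W := ((Ideal.Quotient.mk I).comp α.hom).toAlgebra
    let q : O ⟶ CommRingCat.of W := CommRingCat.ofHom (Ideal.Quotient.mk I)
    have halg : CommRingCat.ofHom (algebraMap K W) = α ≫ q := rfl
    let d : SGA7Torsion.specOver K W ⟶ G := Over.homMk (Spec.map q ≫ G.left.fromSpecStalk x) (by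
      show (Spec.map q ≫ G.left.fromSpecStalk x) ≫ G.hom = Spec.map (CommRingCat.ofHom (algebraMap K W))
      rw [halg, Spec.map_comp, hα, Category.assoc])
    have hone : ∀ (T : Over (Spec (CommRingCat.of K))), (1 : T ⟶ G).left = T.hom ≫ e := fun T => by
      rw [Hom.one_def, Over.comp_left]
      exact congrArg (· ≫ e) (by simp)
    have hd : d ^ n = 1 := by
      have h1 : d ^ n = d ≫ (𝟙 G ^ n : G ⟶ G) := by rw [MonObj.comp_pow, Category.comp_id]
      rw [h1]
      ext1
      rw [Over.comp_left, hone]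
      show (Spec.map q ≫ G.left.fromSpecStalk x) ≫ f = _
      rw [Category.assoc, ← hφf, ← Category.assoc, ← Spec.map_comp, hconst (φ ≫ q) (fun a ha =>
        Ideal.Quotient.eq_zero_iff_mem.2 (Ideal.mem_map_of_mem φ.hom ha))]
      show _ = Spec.map (CommRingCat.ofHom (algebraMap K W)) ≫ e
      rw [halg, Spec.map_comp α q, hα, Spec.map_comp φ q]
      simp only [Category.assoc]
      rw [reassoc_of% hφf, reassoc_of% (show f ≫ G.hom = G.hom from Over.w _)]
    have hc : SGA7Torsion.specHom (Ideal.Quotient.mkₐ K (maximalIdeal W)) ≫ d = 1 := by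
      ext1
      rw [Over.comp_left, hone, SGA7Torsion.specHom_left]
      let q' : CommRingCat.of W ⟶ CommRingCat.of (W ⧸ maximalIdeal W) :=
        CommRingCat.ofHom (Ideal.Quotient.mkₐ K (maximalIdeal W)).toRingHom
      show Spec.map q' ≫ Spec.map q ≫ G.left.fromSpecStalk x = _
      rw [← Category.assoc, ← Spec.map_comp, hconst (q ≫ q') (fun a ha => by
        refine Ideal.Quotient.eq_zero_iff_mem.2 ?_
        haveI : IsLocalHom (Ideal.Quotient.mk I) := .of_surjective _ Ideal.Quotient.mk_surjective
        exact fun hu => ha ((isUnit_map_iff (Ideal.Quotient.mk I) a).1 hu))]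
      show _ = Spec.map (CommRingCat.ofHom (algebraMap K (W ⧸ maximalIdeal W))) ≫ e
      rw [show CommRingCat.ofHom (algebraMap K (W ⧸ maximalIdeal W)) = α ≫ q ≫ q' from rfl,
        Spec.map_comp α, hα, Category.assoc]
    have h := SGA7Torsion.eq_one_of_pow_eq_one G d n (by
      simpa using (IsUnit.mk0 _ hn).map (algebraMap K W)) hd hc
    have h' : Spec.map q ≫ G.left.fromSpecStalk x = Spec.map (α ≫ q) ≫ e := by
      have h2 := congrArg (fun g => g.left) h
      rw [hone] at h2
      exact h2
    have hq : q = ev ≫ α ≫ q := Spec.map_injective (by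
      rw [← cancel_mono (G.left.fromSpecStalk x), h', Spec.map_comp ev, Category.assoc, hev])
    intro a ha
    refine Ideal.Quotient.eq_zero_iff_mem.1 ?_
    have hz : ev.hom a = 0 := by
      by_contra hne
      exact ha (IsLocalHom.map_nonunit (f := ev.hom) a (IsUnit.mk0 _ hne))
    show q.hom a = 0
    rw [hq]
    show q.hom (α.hom (ev.hom a)) = 0
    rw [hz, map_zero, map_zero]
  have hfac : f.stalkMap x = c.hom ≫ φ := (Iso.hom_inv_id_assoc c _).symm
  refine ⟨?_, ?_⟩
  · show (f.stalkMap x).hom.Flat
    rw [hfac]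
    exact (RingHom.Flat.respectsIso.cancel_left_isIso c.hom φ).2 (flat_of_endo φ.hom hm hres)
  · show (f.stalkMap x).hom.FormallyUnramified
    rw [EtaleNhd17.formallyUnramified_stalkMap_iff_map_eq]
    letI := (f.residueFieldMap x).hom.toAlgebra
    refine ⟨?_, ?_⟩
    · have hsurj : Function.Surjective
          (algebraMap (G.left.residueField (f x)) (G.left.residueField x)) := by
        intro y
        obtain ⟨a, rfl⟩ := IsLocalRing.residue_surjective y
        refine ⟨residue _ (c.inv.hom a), ?_⟩
        show residue O (φ.hom a) = residue O a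
        refine (Ideal.Quotient.mk_eq_mk_iff_sub_mem _ _).2 ?_
        rw [← neg_sub]
        exact neg_mem (hres a)
      exact AlgEquiv.Algebra.isSeparable (AlgEquiv.ofBijective (Algebra.ofId _ _)
        ⟨(algebraMap (G.left.residueField (f x)) (G.left.residueField x)).injective, hsurj⟩)
    · have hl : IsLocalHom (f.stalkMap x).hom := inferInstance
      refine le_antisymm (((IsLocalRing.local_hom_TFAE (f.stalkMap x).hom).out 0 2).1 hl) ?_
      conv_lhs => rw [← hm]
      rw [Ideal.map_le_iff_le_comap]
      intro a ha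
      rw [Ideal.mem_comap, show φ.hom a = (f.stalkMap x).hom (c.inv.hom a) from rfl]
      refine Ideal.mem_map_of_mem _ fun hu => ha ?_
      exact IsLocalHom.map_nonunit (f := c.inv.hom) a hu

/-- The power map is étale on a neighbourhood of the unit. -/
theorem exists_etale_pow (n : ℕ) (hn : (n : K) ≠ 0) :
    ∃ V : G.left.Opens, η[G].left (closedPoint K) ∈ V ∧ Etale (V.ι ≫ (𝟙 G ^ n : G ⟶ G).left) := by
  haveI : IsLocallyNoetherian G.left := LocallyOfFiniteType.isLocallyNoetherian G.hom
  haveI : LocallyOfFiniteType ((𝟙 G ^ n : G ⟶ G).left ≫ G.hom) := by rw [Over.w]; infer_instance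
  haveI : LocallyOfFiniteType (𝟙 G ^ n : G ⟶ G).left := locallyOfFiniteType_of_comp _ G.hom
  haveI : LocallyOfFinitePresentation (𝟙 G ^ n : G ⟶ G).left := inferInstance
  obtain ⟨h1, h2⟩ := flat_unramified_pow G n hn
  exact EtaleNhd17.exists_etale_of_stalk _ _ h1 h2

end Groth.Agent.MulEtale20
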